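import Cfsg.Agent.H830.B57.Defs

/-!
# S5717 [D2]: abelian normal subgroups of primitive linear groups (helper315)

`A ≤ X` abelian normal, `X` primitive linear: the algebra `E` generated by `A` is a finite commutative ring normalized
by `X`. It is reduced since `X` is irreducible (`isReduced_of_irr`), and the spaces annihilated by the maximal ideals of
`E` form a system of imprimitivity, so `E` is a field (`isField_of_prim`).
-/

set_option autoImplicit false

open Subgroup

namespace Cfsg.Agent.H315.B57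

open Cfsg.Agent.H830.B57

section Ring

variable {R V : Type} [CommRing R] [Finite R] [AddCommGroup V] [Module R V] {p : ℕ} [Fact p.Prime]
  [Module (ZMod p) V] [Algebra (ZMod p) R] [IsScalarTower (ZMod p) R V]

/-- the ring is reduced -/
theorem isReduced_of_irr (hf : ∀ r : R, (∀ v : V, r • v = 0) → r = 0) (X : Subgroup (V ≃ₗ[ZMod p] V))
    (hX : PrimLin X) (hσ : ∀ g ∈ X, ∃ σ : R ≃+* R, ∀ (r : R) (v : V), g (r • v) = σ r • g v) : IsReduced R := by
  obtain ⟨v0, hv0⟩ := hX.nt
  have key : ∀ k : ℕ, (nilradical R) • (⊤ : Submodule R V) = ⊤ → (nilradical R) ^ k • (⊤ : Submodule R V) = ⊤ := by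
    intro k h
    induction k with
    | zero => rw [pow_zero, Ideal.one_eq_top, Submodule.top_smul]
    | succ k ih => rw [pow_succ, Submodule.mul_smul, h, ih]
  have hst : ∀ g ∈ X, ∀ v ∈ ((nilradical R) • (⊤ : Submodule R V)).restrictScalars (ZMod p),
      g v ∈ ((nilradical R) • (⊤ : Submodule R V)).restrictScalars (ZMod p) := by
    intro g hg v hv
    rw [Submodule.restrictScalars_mem] at hv ⊢
    obtain ⟨σ, hσ⟩ := hσ g hg
    refine Submodule.smul_induction_on (p := fun v => g v ∈ (nilradical R) • (⊤ : Submodule R V)) hv ?_ ?_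
    · intro r hr n _
      rw [hσ]
      refine Submodule.smul_mem_smul ?_ (Submodule.mem_top)
      rw [mem_nilradical] at hr ⊢
      exact hr.map σ
    · intro x y hx hy
      rw [map_add]
      exact Submodule.add_mem _ hx hy
  rcases hX.irr _ hst with h | h
  · refine ⟨fun r hr => hf r fun v => ?_⟩
    have h1 : r • v ∈ (nilradical R) • (⊤ : Submodule R V) :=
      Submodule.smul_mem_smul (mem_nilradical.2 hr) Submodule.mem_top
    have h2 : r • v ∈ ((nilradical R) • (⊤ : Submodule R V)).restrictScalars (ZMod p) := h1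
    rw [h] at h2
    exact (Submodule.mem_bot _).1 h2
  · exfalso
    have h1 : (nilradical R) • (⊤ : Submodule R V) = ⊤ := by
      rw [eq_top_iff]
      intro v _
      have h2 : v ∈ ((nilradical R) • (⊤ : Submodule R V)).restrictScalars (ZMod p) := by
        rw [h]
        exact Submodule.mem_top
      exact h2
    obtain ⟨k, hk⟩ := IsArtinianRing.isNilpotent_nilradical (R := R)
    have h2 := key k h1
    rw [hk, Ideal.zero_eq_bot, Submodule.bot_smul] at h2
    have h3 : v0 ∈ (⊤ : Submodule R V) := Submodule.mem_top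
    rw [← h2] at h3
    exact hv0 ((Submodule.mem_bot _).1 h3)

/-- **the ring is a field** -/
theorem isField_of_prim (hf : ∀ r : R, (∀ v : V, r • v = 0) → r = 0) (X : Subgroup (V ≃ₗ[ZMod p] V))
    (hX : PrimLin X) (hσ : ∀ g ∈ X, ∃ σ : R ≃+* R, ∀ (r : R) (v : V), g (r • v) = σ r • g v) : IsField R := by
  classical
  have hred := isReduced_of_irr hf X hX hσ
  obtain ⟨v0, hv0⟩ := hX.nt
  have hnt : Nontrivial R := by
    refine ⟨1, 0, fun h => hv0 ?_⟩
    rw [← one_smul R v0, h, zero_smul]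
  have hfin : Finite (MaximalSpectrum R) := inferInstance
  have := Fintype.ofFinite (MaximalSpectrum R)
  let T : MaximalSpectrum R → Submodule R V := fun i => Submodule.torsionBySet R V (i.asIdeal : Set R)
  have hT : ∀ i v, v ∈ T i ↔ ∀ z ∈ i.asIdeal, z • v = 0 := by
    intro i v
    show v ∈ Submodule.torsionBySet R V (i.asIdeal : Set R) ↔ _
    rw [Submodule.mem_torsionBySet_iff]
    exact ⟨fun h z hz => h ⟨z, hz⟩, fun h z => h z z.2⟩
  have hpair : ((Finset.univ : Finset (MaximalSpectrum R)) : Set (MaximalSpectrum R)).Pairwise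
      fun i j => i.asIdeal ⊔ j.asIdeal = ⊤ := fun i _ j _ hij =>
    i.isMaximal.coprime_of_ne j.isMaximal fun h => hij (MaximalSpectrum.ext h)
  have hinf : (⨅ i ∈ (Finset.univ : Finset (MaximalSpectrum R)), i.asIdeal) = ⊥ := by
    have h1 := IsArtinianRing.jacobson_eq_radical (⊥ : Ideal R)
    have h2 : (⊥ : Ideal R).radical = ⊥ := nilradical_eq_zero R
    rw [h2] at h1
    refine le_antisymm ?_ bot_le
    calc _ ≤ (⊥ : Ideal R).jacobson := by
          refine le_sInf fun J hJ => ?_
          exact (iInf₂_le (⟨J, hJ.2⟩ : MaximalSpectrum R) (Finset.mem_univ _))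
      _ = ⊥ := h1
  have hint := Submodule.torsionBySet_isInternal (M := V) hpair (by
    rw [hinf]
    intro v z
    have h1 : (z : R) = 0 := z.2
    rw [h1, zero_smul])
  have hind := hint.submodule_iSupIndep
  have hsup := hint.submodule_iSup_eq_top
  -- the blocks
  let ι : Type := {i : MaximalSpectrum R // T i ≠ ⊥}
  let W : ι → Submodule (ZMod p) V := fun i => (T i.1).restrictScalars (ZMod p)
  have hW : ∀ (i : ι) v, v ∈ W i ↔ v ∈ T i.1 := fun i v => Iff.rfl
  have hWind : iSupIndep W := by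
    rw [iSupIndep_def]
    intro i
    rw [Submodule.disjoint_def]
    intro v hv hv'
    have h1 := (iSupIndep_def.1 hind) ⟨i.1, Finset.mem_univ _⟩
    rw [Submodule.disjoint_def] at h1
    refine h1 v hv ?_
    have h2 : (⨆ j, ⨆ (_ : j ≠ i), W j) ≤ (⨆ j, ⨆ (_ : j ≠ (⟨i.1, Finset.mem_univ _⟩ :
        ↥(Finset.univ : Finset (MaximalSpectrum R)))), Submodule.torsionBySet R V (j.1.asIdeal : Set R)).restrictScalars
          (ZMod p) := by
      refine iSup₂_le fun j hj => ?_
      intro w hw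
      rw [Submodule.restrictScalars_mem]
      exact Submodule.mem_iSup_of_mem ⟨j.1, Finset.mem_univ _⟩ (Submodule.mem_iSup_of_mem (fun h => hj (Subtype.ext
        (congrArg (fun x : ↥(Finset.univ : Finset (MaximalSpectrum R)) => x.1) h))) hw)
    exact h2 hv'
  have hWsup : iSup W = ⊤ := by
    rw [eq_top_iff]
    intro v _
    have h1 : v ∈ (⨆ i : ↥(Finset.univ : Finset (MaximalSpectrum R)),
        Submodule.torsionBySet R V (i.1.asIdeal : Set R)) := by
      rw [hsup]; exact Submodule.mem_top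
    refine Submodule.iSup_induction _ (motive := fun v => v ∈ iSup W) h1 (fun i x hx => ?_) (Submodule.zero_mem _)
      fun x y hx hy => Submodule.add_mem _ hx hy
    by_cases hb : T i.1 = ⊥
    · have h2 : x ∈ T i.1 := hx
      rw [hb] at h2
      rw [(Submodule.mem_bot _).1 h2]
      exact Submodule.zero_mem _
    · exact Submodule.mem_iSup_of_mem (⟨i.1, hb⟩ : ι) hx
  have hWne : ∀ i, W i ≠ ⊥ := by
    intro i h
    apply i.2
    rw [eq_bot_iff]
    intro v hv
    have h1 : v ∈ W i := hv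
    rw [h] at h1
    exact h1
  have hperm : ∀ g ∈ X, ∀ i, ∃ j, ∀ v, v ∈ W i ↔ g v ∈ W j := by
    intro g hg i
    obtain ⟨σ, hσ⟩ := hσ g hg
    let J : MaximalSpectrum R := ⟨Ideal.comap σ.symm i.1.asIdeal, by
      have := i.1.isMaximal
      exact Ideal.comap_isMaximal_of_equiv σ.symm⟩
    have hJ : ∀ v, v ∈ T i.1 ↔ g v ∈ T J := by
      intro v
      rw [hT, hT]
      constructor
      · intro h z hz
        have h1 : σ.symm z ∈ i.1.asIdeal := hz
        have h2 := hσ (σ.symm z) v
        rw [h _ h1, map_zero, RingEquiv.apply_symm_apply] at h2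
        exact h2.symm
      · intro h z hz
        have h1 : σ z ∈ J.asIdeal := by
          show σ.symm (σ z) ∈ i.1.asIdeal
          rw [RingEquiv.symm_apply_apply]
          exact hz
        have h2 := h _ h1
        rw [← hσ] at h2
        exact (map_eq_zero_iff g g.injective).1 h2
    refine ⟨⟨J, fun h => i.2 ?_⟩, hJ⟩
    rw [eq_bot_iff]
    intro v hv
    have h1 := (hJ v).1 hv
    rw [h] at h1
    rw [Submodule.mem_bot] at h1 ⊢
    exact (map_eq_zero_iff g g.injective).1 h1
  have hfι : Finite ι := inferInstanceAs (Finite {i : MaximalSpectrum R // T i ≠ ⊥})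
  have hsub := hX.prim ι W hWind hWsup hWne hperm
  have hne : Nonempty ι := by
    by_contra h
    rw [not_nonempty_iff] at h
    rw [iSup_of_empty] at hWsup
    have h1 : v0 ∈ (⊤ : Submodule (ZMod p) V) := Submodule.mem_top
    rw [← hWsup] at h1
    exact hv0 ((Submodule.mem_bot _).1 h1)
  obtain ⟨i⟩ := hne
  have hi : W i = ⊤ := by
    rw [← hWsup]
    refine le_antisymm (le_iSup W i) (iSup_le fun j => ?_)
    rw [hsub.elim j i]
  have hbot : i.1.asIdeal = ⊥ := by
    rw [eq_bot_iff]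
    intro z hz
    refine hf z fun v => ?_
    have h1 : v ∈ W i := by rw [hi]; exact Submodule.mem_top
    exact (hT _ _).1 h1 z hz
  by_contra hnf
  obtain ⟨I, h1, h2⟩ := Ring.not_isField_iff_exists_ideal_bot_lt_and_lt_top.1 hnf
  have h3 := i.1.isMaximal
  rw [hbot] at h3
  exact h2.ne (h3.out.2 I h1)

end Ring

section Main

variable {p : ℕ} [Fact p.Prime] {V : Type} [AddCommGroup V] [Module (ZMod p) V]

/-- the algebra generated by a group of linear maps -/
noncomputable def alg (A : Subgroup (V ≃ₗ[ZMod p] V)) : Subalgebra (ZMod p) (Module.End (ZMod p) V) :=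
  Algebra.adjoin (ZMod p) ((fun a : V ≃ₗ[ZMod p] V => (a : V →ₗ[ZMod p] V)) '' (A : Set (V ≃ₗ[ZMod p] V)))

theorem mem_alg {A : Subgroup (V ≃ₗ[ZMod p] V)} {a : V ≃ₗ[ZMod p] V} (ha : a ∈ A) :
    (a : V →ₗ[ZMod p] V) ∈ alg A := Algebra.subset_adjoin ⟨a, ha, rfl⟩

theorem comm_of {A : Subgroup (V ≃ₗ[ZMod p] V)} {f : Module.End (ZMod p) V}
    (hf : ∀ a ∈ A, f * (a : V →ₗ[ZMod p] V) = (a : V →ₗ[ZMod p] V) * f) {z : Module.End (ZMod p) V} (hz : z ∈ alg A) :
    f * z = z * f := by
  have h1 : alg A ≤ Subalgebra.centralizer (ZMod p) ({f} : Set (Module.End (ZMod p) V)) := by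
    refine Algebra.adjoin_le ?_
    rintro _ ⟨a, ha, rfl⟩
    rw [SetLike.mem_coe, Subalgebra.mem_centralizer_iff]
    intro g hg
    rw [Set.mem_singleton_iff] at hg
    subst hg
    exact hf a ha
  exact (Subalgebra.mem_centralizer_iff _).1 (h1 hz) f rfl

theorem conj_alg {A : Subgroup (V ≃ₗ[ZMod p] V)} (g : V ≃ₗ[ZMod p] V) (hg : ∀ y ∈ A, g * y * g⁻¹ ∈ A)
    (hg' : ∀ y ∈ A, g⁻¹ * y * g ∈ A) :
    (alg A).map (g.conjAlgEquiv (ZMod p) : Module.End (ZMod p) V →ₐ[ZMod p] Module.End (ZMod p) V) = alg A := by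
  have h1 : ∀ a : V ≃ₗ[ZMod p] V, g.conjAlgEquiv (ZMod p) (a : V →ₗ[ZMod p] V) =
      ((g * a * g⁻¹ : V ≃ₗ[ZMod p] V) : V →ₗ[ZMod p] V) := by
    intro a
    ext v
    rfl
  unfold alg
  rw [AlgHom.map_adjoin]
  congr 1
  ext z
  constructor
  · rintro ⟨_, ⟨a, ha, rfl⟩, rfl⟩
    exact ⟨g * a * g⁻¹, hg a ha, (h1 a).symm⟩
  · rintro ⟨a, ha, rfl⟩
    refine ⟨_, ⟨g⁻¹ * a * g, hg' a ha, rfl⟩, ?_⟩
    refine (h1 _).trans ?_
    congr 1
    group

/-- **D2: abelian normal subgroups are cyclic and semiregular.** -/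
theorem abelian_normal [Finite V] (X : Subgroup (V ≃ₗ[ZMod p] V)) (hX : PrimLin X)
    (A : Subgroup (V ≃ₗ[ZMod p] V)) (_hAX : A ≤ X) (hA : ∀ x ∈ X, ∀ y ∈ A, x * y * x⁻¹ ∈ A)
    (hab : ∀ x ∈ A, ∀ y ∈ A, x * y = y * x) :
    IsCyclic A ∧ (∀ a ∈ A, a ≠ 1 → ∀ v : V, a v = v → v = 0) ∧
    -- the algebra generated by `A` is a field
    ∃ (E : Subalgebra (ZMod p) (Module.End (ZMod p) V)), IsField E ∧
      (∀ a ∈ A, ((a : V ≃ₗ[ZMod p] V) : V →ₗ[ZMod p] V) ∈ E) ∧
      ∀ x : V ≃ₗ[ZMod p] V, (∀ a ∈ A, x * a = a * x) → ∀ z ∈ E, (x : V →ₗ[ZMod p] V) * z = z * (x : V →ₗ[ZMod p] V) := by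
  classical
  have hcomm : ∀ x : V ≃ₗ[ZMod p] V, (∀ a ∈ A, x * a = a * x) → ∀ z ∈ alg A,
      (x : V →ₗ[ZMod p] V) * z = z * (x : V →ₗ[ZMod p] V) := by
    intro x hx z hz
    refine comm_of (fun a ha => ?_) hz
    have h1 := congrArg (fun y : V ≃ₗ[ZMod p] V => (y : V →ₗ[ZMod p] V)) (hx a ha)
    exact h1
  have hEc : ∀ x y : alg A, x * y = y * x := by
    rintro ⟨x, hx⟩ ⟨y, hy⟩
    apply Subtype.ext
    show x * y = y * x
    refine comm_of (fun a ha => ?_) hy
    exact (hcomm a (fun b hb => hab a ha b hb) x hx).symm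
  have hfinEnd : Finite (Module.End (ZMod p) V) := DFunLike.finite _
  have hfinE : Finite (alg A) := Finite.of_injective _ Subtype.val_injective
  have hfield : IsField (alg A) := by
    let _ : CommRing (alg A) := { (inferInstance : Ring (alg A)) with mul_comm := hEc }
    refine isField_of_prim (R := alg A) (V := V) (p := p) (fun r hr => ?_) X hX fun g hg => ?_
    · apply Subtype.ext
      apply LinearMap.ext
      intro v
      exact hr v
    · have h1 := conj_alg g (A := A) (fun y hy => hA g hg y hy) (fun y hy => by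
        have := hA g⁻¹ (X.inv_mem hg) y hy
        rwa [inv_inv] at this)
      let σ : alg A ≃ₐ[ZMod p] alg A := ((g.conjAlgEquiv (ZMod p)).subalgebraMap (alg A)).trans
        (Subalgebra.equivOfEq _ _ h1)
      refine ⟨σ.toRingEquiv, fun r v => ?_⟩
      show g ((r : Module.End (ZMod p) V) v) = g ((r : Module.End (ZMod p) V) (g.symm (g v)))
      rw [LinearEquiv.symm_apply_apply]
  refine ⟨?_, ?_, alg A, hfield, fun a ha => mem_alg ha, hcomm⟩
  · let _ : Field (alg A) := hfield.toField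
    let f : A →* alg A :=
      { toFun := fun a => ⟨((a : V ≃ₗ[ZMod p] V) : V →ₗ[ZMod p] V), mem_alg a.2⟩
        map_one' := Subtype.ext rfl
        map_mul' := fun a b => Subtype.ext rfl }
    have : Finite (V ≃ₗ[ZMod p] V) := DFunLike.finite _
    refine isCyclic_of_injective_ringHom f fun a b h => Subtype.ext ?_
    exact LinearEquiv.toLinearMap_injective (congrArg Subtype.val h)
  · intro a ha ha1 v hv
    let z : alg A := ⟨(a : V →ₗ[ZMod p] V), mem_alg ha⟩ - 1
    have hz : z ≠ 0 := by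
      intro h
      apply ha1
      have h1 : (⟨(a : V →ₗ[ZMod p] V), mem_alg ha⟩ : alg A) = 1 := sub_eq_zero.1 h
      exact LinearEquiv.toLinearMap_injective (congrArg Subtype.val h1)
    obtain ⟨y, hy⟩ := hfield.mul_inv_cancel hz
    have h1 : (y * z : alg A) = 1 := by rw [hEc, hy]
    have h2 : ((y * z : alg A) : Module.End (ZMod p) V) v = v := by rw [h1]; rfl
    rw [← h2]
    show (y : Module.End (ZMod p) V) ((z : Module.End (ZMod p) V) v) = 0
    have h3 : (z : Module.End (ZMod p) V) v = 0 := by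
      show (a : V →ₗ[ZMod p] V) v - v = 0
      rw [sub_eq_zero]
      exact hv
    rw [h3, map_zero]

end Main

end Cfsg.Agent.H315.B57
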